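import Mathlib

set_option autoImplicit false
universe u
open CategoryTheory AlgebraicGeometry TopologicalSpace

namespace Groth.Agent.H5.CohTop

variable {X : Scheme.{u}}

/-- The support of a section of a sheaf of abelian groups is closed. -/
lemma isOpen_setOf_germ_eq_zero (F : TopCat.Presheaf AddCommGrpCat.{u} X.carrier) (U : X.Opens)
    (t : F.obj (Opposite.op U)) :
    IsOpen {u : X | ∃ hu : u ∈ U, F.germ U u hu t = 0} := by
  rw [isOpen_iff_forall_mem_open]
  rintro u ⟨hu, h0⟩
  have h0' : F.germ U u hu t = F.germ U u hu 0 := by rw [h0, map_zero]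
  obtain ⟨W, hW, iU, iV, e⟩ := F.germ_eq u hu hu t 0 h0'
  refine ⟨W, ?_, W.isOpen, hW⟩
  intro w hw
  refine ⟨iU.le hw, ?_⟩
  rw [← F.germ_res_apply iU w hw t, e, map_zero, map_zero]


theorem exists_section_supported_iff
    (hX : ∀ x : X, ∃ U : X.Opens, x ∈ U ∧ TopologicalSpace.NoetherianSpace U)
    (F : TopCat.Sheaf AddCommGrpCat.{u} X.carrier) (x : X) (s : F.presheaf.stalk x) :
    (∃ (U : X.Opens) (hx : x ∈ U) (t : F.presheaf.obj (Opposite.op U)),
        F.presheaf.germ U x hx t = s ∧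
          ∀ (u : X) (hu : u ∈ U), F.presheaf.germ U u hu t ≠ 0 → u ∈ closure ({x} : Set X)) ↔
      ∀ (y : X) (h : y ⤳ x), y ≠ x → F.presheaf.stalkSpecializes h s = 0 := by
  constructor
  · rintro ⟨U, hx, t, rfl, hsupp⟩ y h hne
    by_contra h0
    rw [TopCat.Presheaf.germ_stalkSpecializes_apply] at h0
    have hy : y ∈ closure ({x} : Set X) := hsupp y _ h0
    have h' : x ⤳ y := specializes_iff_mem_closure.mpr hy
    exact hne (h.antisymm h').eq
  · intro H
    obtain ⟨U₀, hxU₀, hN₀⟩ := hX x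
    obtain ⟨U, hUU₀, hxU, t, rfl⟩ := F.presheaf.exists_le_germ_eq s hxU₀
    haveI : NoetherianSpace ((U : Set X) : Type u) :=
      @Topology.IsInducing.noetherianSpace _ _ _ _ hN₀ _
        (Topology.IsEmbedding.inclusion (show (U : Set X) ⊆ U₀ from hUU₀)).isInducing
    haveI : QuasiSober ((U : Set X) : Type u) := inferInstanceAs (QuasiSober (Scheme.Opens.toScheme (X := X) U))
    -- the support of `t` in `U`
    let S : Set (U : Set X) := {u | F.presheaf.germ U u.1 u.2 t ≠ 0}
    have hS : IsClosed S := by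
      rw [← isOpen_compl_iff]
      have := (isOpen_setOf_germ_eq_zero F.presheaf U t).preimage
        (continuous_subtype_val (p := fun u => u ∈ (U : Set X)))
      convert this using 1
      ext u
      simp only [S, Set.mem_compl_iff, Set.mem_setOf_eq, not_not, Set.mem_preimage]
      exact ⟨fun h => ⟨u.2, h⟩, fun ⟨_, h⟩ => h⟩
    obtain ⟨𝒵, h𝒵fin, h𝒵cl, h𝒵irr, hSU⟩ :=
      NoetherianSpace.exists_finite_set_isClosed_irreducible hS
    -- the components through `x` are equal to the closure of `x`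
    let x' : (U : Set X) := ⟨x, hxU⟩
    have hthrough : ∀ Z ∈ 𝒵, x' ∈ Z → Z ⊆ closure {x'} := by
      intro Z hZ hxZ
      obtain ⟨z, hz⟩ := QuasiSober.sober (h𝒵irr Z hZ) (h𝒵cl Z hZ)
      have hzZ : z ∈ Z := by rw [← hz.def]; exact subset_closure rfl
      have hzS : z ∈ S := by rw [hSU]; exact ⟨Z, hZ, hzZ⟩
      have hzx' : z ⤳ x' := by
        rw [specializes_iff_mem_closure, hz.def]; exact hxZ
      have hzx : z.1 ⤳ x := (subtype_specializes_iff _ _).mp hzx'
      have hzeq : z.1 = x := by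
        by_contra hne
        have := H z.1 hzx hne
        rw [TopCat.Presheaf.germ_stalkSpecializes_apply] at this
        exact hzS this
      have : z = x' := Subtype.ext hzeq
      rw [← this, hz.def]
    -- remove the other components
    let K : Set (U : Set X) := ⋃ Z ∈ {Z ∈ 𝒵 | x' ∉ Z}, Z
    have hK : IsClosed K := (h𝒵fin.subset (Set.sep_subset _ _)).isClosed_biUnion
      fun Z hZ => h𝒵cl Z hZ.1
    obtain ⟨K', hK', hKK'⟩ := isClosed_induced_iff.mp hK
    let U' : X.Opens := U ⊓ ⟨K'ᶜ, hK'.isOpen_compl⟩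
    have hxK : x' ∉ K := by
      simp only [K, Set.mem_iUnion, not_exists]
      rintro Z ⟨-, hxZ⟩ hxZ'
      exact hxZ hxZ'
    have hxU' : x ∈ U' := by
      refine ⟨hxU, ?_⟩
      change x ∉ K'
      intro hxK'
      apply hxK
      rw [← hKK']; exact hxK'
    refine ⟨U', hxU', F.presheaf.map (homOfLE (inf_le_left : U' ≤ U)).op t,
      TopCat.Presheaf.germ_res_apply _ _ _ _ _, ?_⟩
    intro u hu hne
    rw [TopCat.Presheaf.germ_res_apply] at hne
    let u' : (U : Set X) := ⟨u, hu.1⟩
    have huS : u' ∈ S := hne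
    rw [hSU] at huS
    obtain ⟨Z, hZ, huZ⟩ := huS
    have hxZ : x' ∈ Z := by
      by_contra hxZ
      have : u' ∈ K := Set.mem_biUnion (⟨hZ, hxZ⟩ : Z ∈ {Z ∈ 𝒵 | x' ∉ Z}) huZ
      rw [← hKK'] at this
      exact hu.2 this
    have h1 : u' ∈ closure {x'} := hthrough Z hZ hxZ huZ
    have h2 : x' ⤳ u' := specializes_iff_mem_closure.mpr h1
    exact specializes_iff_mem_closure.mp ((subtype_specializes_iff _ _).mp h2)

end Groth.Agent.H5.CohTop
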